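import Groth.Agent.CurvesC.CompGeom
import Groth.Agent.AlgSp.K597.FlatKer
import Groth.Agent.FBlow.K788.Cart
import Groth.Agent.S17083
import Groth.Agent.S14401
import Groth.Agent.S10944
import Groth.Agent.Curves.K326.Clopen

/-!
# Components of a flat base change lying over a component: the ideals
-/

set_option autoImplicit false
universe u
open CategoryTheory CategoryTheory.Limits AlgebraicGeometry TopologicalSpace Opposite

namespace K974.BcKer

open Groth.Agent Groth.Agent.CurvesC.CompGeom

section Top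

variable {W X' : Type*} [TopologicalSpace W] [TopologicalSpace X'] {i : W → X'}

/-- Components contained in the range of an embedding are components of the source. -/
theorem preimage_mem (hi : Topology.IsEmbedding i) {C' : Set X'} (hC' : C' ∈ irreducibleComponents X')
    (hsub : C' ⊆ Set.range i) : i ⁻¹' C' ∈ irreducibleComponents W := by
  have him : i '' (i ⁻¹' C') = C' := by
    rw [Set.image_preimage_eq_inter_range, Set.inter_eq_left.mpr hsub]
  refine ⟨?_, fun S hS hle => ?_⟩
  · have h1 : Topology.IsEmbedding (fun w : (i ⁻¹' C' : Set W) => i w) :=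
      hi.comp Topology.IsEmbedding.subtypeVal
    have h2 : IsIrreducible (Set.range fun w : (i ⁻¹' C' : Set W) => i w) := by
      have : (Set.range fun w : (i ⁻¹' C' : Set W) => i w) = C' := by
        refine Eq.trans ?_ him
        ext x
        simp
      rw [this]
      exact hC'.1
    exact isIrreducible_iff_irreducibleSpace.mpr (irreducibleSpace_of_embedding _ h1 h2)
  · have h1 : IsIrreducible (i '' S) := hS.image i hi.continuous.continuousOn
    have h2 : C' ≤ i '' S := by
      rw [← him]
      exact Set.image_mono hle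
    have h3 : i '' S ≤ C' := hC'.2 h1 h2
    exact Set.image_subset_iff.mp h3

end Top

section Ker

variable {W X' : Scheme.{u}}

/-- Restricting the kernel to an open subset only depends on the part over the open subset. -/
theorem ker_comap_open (i : W ⟶ X') [QuasiCompact i] (U : W.Opens) [QuasiCompact (U.ι ≫ i)] (O : X'.Opens)
    (h : i ⁻¹ᵁ O ≤ U) : (U.ι ≫ i).ker.comap O.ι = i.ker.comap O.ι := by
  have s1 : IsPullback (pullback.fst i O.ι) (pullback.snd i O.ι) i O.ι := IsPullback.of_hasPullback _ _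
  have hr : Set.range (pullback.fst i O.ι) ⊆ Set.range U.ι := by
    rintro _ ⟨z, rfl⟩
    rw [Scheme.Opens.range_ι]
    apply h
    change i (pullback.fst i O.ι z) ∈ O
    rw [← Scheme.Hom.comp_apply, pullback.condition, Scheme.Hom.comp_apply]
    exact (pullback.snd i O.ι z).2
  let l : pullback i O.ι ⟶ U := IsOpenImmersion.lift U.ι (pullback.fst i O.ι) hr
  have hl : l ≫ U.ι = pullback.fst i O.ι := IsOpenImmersion.lift_fac _ _ _
  have s2 : IsPullback l (pullback.snd i O.ι) (U.ι ≫ i) O.ι := by
    refine ⟨⟨by rw [← Category.assoc, hl, pullback.condition]⟩, ⟨PullbackCone.IsLimit.mk _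
      (fun s => pullback.lift (s.fst ≫ U.ι) s.snd (by rw [Category.assoc]; exact s.condition)) ?_ ?_ ?_⟩⟩
    · intro s
      rw [← cancel_mono U.ι, Category.assoc, hl, pullback.lift_fst]
    · intro s
      rw [pullback.lift_snd]
    · intro s m h1 h2
      apply pullback.hom_ext
      · rw [pullback.lift_fst, ← h1, Category.assoc, hl]
      · rw [pullback.lift_snd, h2]
  rw [← K597.FlatKer.ker_of_isPullback_flat s1, ← K597.FlatKer.ker_of_isPullback_flat s2]

/-- Kernels of open immersions with the same range agree. -/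
theorem ker_eq_of_range_eq {V₁ V₂ : Scheme.{u}} (a : V₁ ⟶ X') (b : V₂ ⟶ X') [IsOpenImmersion a] [IsOpenImmersion b]
    (h : Set.range a = Set.range b) : a.ker = b.ker := by
  have e := IsOpenImmersion.isoOfRangeEq_hom_fac a b h
  rw [← e, Scheme.Hom.ker_comp_of_isIso]

theorem ker_comap_open' (V₁ V₂ : X'.Opens) [QuasiCompact V₁.ι] [QuasiCompact V₂.ι] (O : X'.Opens)
    [IsNoetherian X'] (h : V₁ ⊓ O = V₂ ⊓ O) : V₁.ι.ker.comap O.ι = V₂.ι.ker.comap O.ι := by
  have q : ∀ V : X'.Opens, QuasiCompact ((V.ι ⁻¹ᵁ O).ι ≫ V.ι) := fun V => by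
    have : NoetherianSpace ((V.ι ⁻¹ᵁ O) : Scheme.{u}) :=
      ((V.ι ⁻¹ᵁ O).ι ≫ V.ι).isOpenEmbedding.isInducing.noetherianSpace
    infer_instance
  have q1 := q V₁
  have q2 := q V₂
  rw [← ker_comap_open V₁.ι (V₁.ι ⁻¹ᵁ O) O le_rfl, ← ker_comap_open V₂.ι (V₂.ι ⁻¹ᵁ O) O le_rfl]
  congr 1
  have r : ∀ V : X'.Opens, Set.range ((V.ι ⁻¹ᵁ O).ι ≫ V.ι) = ((V ⊓ O : X'.Opens) : Set X') := fun V => by
    rw [Scheme.Hom.comp_base, TopCat.coe_comp, Set.range_comp, Scheme.Opens.range_ι]
    change V.ι '' (V.ι ⁻¹' O) = _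
    rw [Set.image_preimage_eq_inter_range, Scheme.Opens.range_ι, Set.inter_comm]
    rfl
  refine ker_eq_of_range_eq _ _ ?_
  rw [r, r, h]

end Ker

section Main

variable {X X' : Scheme.{u}} [IsNoetherian X] [IsNoetherian X'] {π : X' ⟶ X} [Flat π] {C : Set X}
  {hC : C ∈ irreducibleComponents (X : Type u)} {W T : Scheme.{u}} {pW : W ⟶ (IC X C hC).subscheme} {i : W ⟶ X'}
  {pT : T ⟶ (IC X C hC ⊔ IX' X C hC).subscheme} {t : T ⟶ X'} {τ : T ⟶ W}

theorem isClosedImmersion_left (sW : IsPullback pW i (IC X C hC).subschemeι π) : IsClosedImmersion i :=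
  MorphismProperty.of_isPullback sW inferInstance

theorem ker_left (sW : IsPullback pW i (IC X C hC).subschemeι π) : i.ker = (IC X C hC).comap π := by
  rw [K597.FlatKer.ker_of_isPullback_flat sW, Scheme.IdealSheafData.ker_subschemeι]

theorem ker_right (sT : IsPullback pT t (IC X C hC ⊔ IX' X C hC).subschemeι π) :
    t.ker = (IC X C hC ⊔ IX' X C hC).comap π := by
  rw [K597.FlatKer.ker_of_isPullback_flat sT, Scheme.IdealSheafData.ker_subschemeι]

theorem range_left (sW : IsPullback pW i (IC X C hC).subschemeι π) : Set.range i = π ⁻¹' C := by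
  have := isClosedImmersion_left sW
  have h1 : (i.ker.support : Set X') = Set.range i := by
    rw [Scheme.Hom.support_ker, i.isClosedEmbedding.isClosed_range.closure_eq]
  rw [← h1, ker_left sW, Scheme.IdealSheafData.support_comap, Closeds.coe_preimage, support_IC]

theorem noetherianSpace_of_isClosedImmersion {Y : Scheme.{u}} (j : Y ⟶ X') [IsClosedImmersion j] :
    NoetherianSpace Y := j.isClosedEmbedding.isInducing.noetherianSpace

variable {C' : Set X'} {hC' : C' ∈ irreducibleComponents (X' : Type u)} {U : W.Opens}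

theorem isClosed_piece (hC' : C' ∈ irreducibleComponents (X' : Type u)) (hU : (U : Set W) = i ⁻¹' C') :
    IsClosed (U : Set W) := by
  rw [hU]
  exact (isClosed_of_mem_irreducibleComponents C' hC').preimage i.continuous

theorem isClosedImmersion_piece [IsClosedImmersion i] (hC' : C' ∈ irreducibleComponents (X' : Type u))
    (hU : (U : Set W) = i ⁻¹' C') : IsClosedImmersion (U.ι ≫ i) := by
  have : IsClosedImmersion U.ι :=
    K326.Clopen.isClosedImmersion (K326.Clopen.Compl.of_isClosed (isClosed_piece hC' hU))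
  infer_instance

theorem range_piece (hU : (U : Set W) = i ⁻¹' C') (hsub : C' ⊆ Set.range i) :
    Set.range (U.ι ≫ i) = C' := by
  rw [Scheme.Hom.comp_base, TopCat.coe_comp, Set.range_comp, Scheme.Opens.range_ι, hU,
    Set.image_preimage_eq_inter_range, Set.inter_eq_left.mpr hsub]

theorem ker_piece [IsClosedImmersion i] [IsReduced W] (hU : (U : Set W) = i ⁻¹' C') (hsub : C' ⊆ Set.range i) :
    (U.ι ≫ i).ker = IC X' C' hC' := by
  have h1 := isClosedImmersion_piece hC' hU
  rw [Ega1.ReducedSub.ker_eq_vanishingIdeal (U.ι ≫ i)]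
  congr 1
  ext1
  change closure (Set.range (U.ι ≫ i)) = C'
  rw [range_piece hU hsub, (isClosed_of_mem_irreducibleComponents C' hC').closure_eq]

theorem isClosedImmersion_inter [IsClosedImmersion t] (hC' : C' ∈ irreducibleComponents (X' : Type u))
    (hU : (U : Set W) = i ⁻¹' C') : IsClosedImmersion ((τ ⁻¹ᵁ U).ι ≫ t) := by
  have : IsClosedImmersion (τ ⁻¹ᵁ U).ι :=
    K326.Clopen.isClosedImmersion (K326.Clopen.Compl.of_isClosed
      ((isClosed_piece hC' hU).preimage τ.continuous))
  infer_instance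

/-- The ideal of the intersection of a component of the base change over `C` with the closure of its complement. -/
theorem ker_inter (sW : IsPullback pW i (IC X C hC).subschemeι π)
    (sT : IsPullback pT t (IC X C hC ⊔ IX' X C hC).subschemeι π) (hτ : τ ≫ i = t) [IsReduced W]
    (hsub : C' ⊆ π ⁻¹' C) (hU : (U : Set W) = i ⁻¹' C') :
    ((τ ⁻¹ᵁ U).ι ≫ t).ker = IC X' C' hC' ⊔ IX' X' C' hC' := by
  have hi := isClosedImmersion_left sW
  have ht : IsClosedImmersion t := MorphismProperty.of_isPullback sT inferInstance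
  have hri := range_left sW
  have hsub' : C' ⊆ Set.range i := hri ▸ hsub
  have hcU := isClosedImmersion_piece hC' hU
  have hcT : IsClosedImmersion ((τ ⁻¹ᵁ U).ι ≫ t) := isClosedImmersion_inter (τ := τ) hC' hU
  have hC'c := isClosed_of_mem_irreducibleComponents C' hC'
  have hCc := isClosed_of_mem_irreducibleComponents C hC
  let O₁ : X'.Opens := ⟨(i '' (U : Set W)ᶜ)ᶜ, (i.isClosedEmbedding.isClosedMap _ U.2.isClosed_compl).isOpen_compl⟩
  let O₂ : X'.Opens := ⟨C'ᶜ, hC'c.isOpen_compl⟩
  have hO₁ : i ⁻¹ᵁ O₁ ≤ U := by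
    intro w hw
    by_contra hwU
    exact hw ⟨w, hwU, rfl⟩
  refine K788.Crt.idealSheafData_ext_of_cover fun x => ?_
  by_cases hx : x ∈ C'
  · refine ⟨O₁, O₁.ι, inferInstance, ?_, ?_⟩
    · rw [Scheme.Opens.range_ι]
      rintro ⟨w, hw, rfl⟩
      apply hw
      rw [hU]
      exact hx
    · have e1 : ((τ ⁻¹ᵁ U).ι ≫ t).ker.comap O₁.ι = t.ker.comap O₁.ι := by
        refine ker_comap_open t (τ ⁻¹ᵁ U) O₁ ?_
        rw [← hτ]
        exact fun z hz => hO₁ hz
      have e2 : (IC X' C' hC').comap O₁.ι = ((IC X C hC).comap π).comap O₁.ι := by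
        rw [← ker_piece (hC' := hC') hU hsub', ← ker_left sW]
        exact ker_comap_open i U O₁ hO₁
      have q1 : ∀ V : X'.Opens, QuasiCompact V.ι := fun V => by
        have : NoetherianSpace (V : Scheme.{u}) := V.ι.isOpenEmbedding.isInducing.noetherianSpace
        infer_instance
      have q2 : ∀ V : X.Opens, QuasiCompact V.ι := fun V => by
        have : NoetherianSpace (V : Scheme.{u}) := V.ι.isOpenEmbedding.isInducing.noetherianSpace
        infer_instance
      have e3 : (IX' X' C' hC').comap O₁.ι = ((IX' X C hC).comap π).comap O₁.ι := by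
        let V : X.Opens := ⟨Cᶜ, hCc.isOpen_compl⟩
        have q3 := q2 V
        have s1 : IsPullback (π ∣_ V) (π ⁻¹ᵁ V).ι V.ι π := isPullback_morphismRestrict π V
        have e4 : (IX' X C hC).comap π = (π ⁻¹ᵁ V).ι.ker := (K597.FlatKer.ker_of_isPullback_flat s1).symm
        rw [e4]
        have q4 := q1 (⟨C'ᶜ, hC'c.isOpen_compl⟩ : X'.Opens)
        have q5 := q1 (π ⁻¹ᵁ V)
        refine ker_comap_open' _ _ O₁ ?_
        ext y
        constructor
        · rintro ⟨h1, h2⟩
          refine ⟨fun h3 => ?_, h2⟩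
          have h4 : y ∈ Set.range i := by rw [hri]; exact h3
          obtain ⟨w, rfl⟩ := h4
          have h5 : w ∈ U := hO₁ h2
          apply h1
          rw [← SetLike.mem_coe, hU] at h5
          exact h5
        · rintro ⟨h1, h2⟩
          exact ⟨fun h3 => h1 (hsub h3), h2⟩
      rw [e1, ker_right sT, Scheme.IdealSheafData.comap_sup, Scheme.IdealSheafData.comap_sup,
        Scheme.IdealSheafData.comap_sup, e2, e3]
  · refine ⟨O₂, O₂.ι, inferInstance, ?_, ?_⟩
    · rw [Scheme.Opens.range_ι]
      exact hx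
    · have h1 : ((τ ⁻¹ᵁ U).ι ≫ t).ker.comap O₂.ι = ⊤ := by
        refine S17083.comap_eq_top _ _ fun y hy => ?_
        have hy' : O₂.ι y ∈ (((τ ⁻¹ᵁ U).ι ≫ t).ker.support : Set X') := hy
        rw [Scheme.Hom.support_ker, ((τ ⁻¹ᵁ U).ι ≫ t).isClosedEmbedding.isClosed_range.closure_eq] at hy'
        obtain ⟨z, hz⟩ := hy'
        have h2 : O₂.ι y ∈ C' := by
          rw [← hz, ← hτ]
          have h3 : τ ((τ ⁻¹ᵁ U).ι z) ∈ (U : Set W) := z.2
          rw [hU] at h3
          exact h3
        exact y.2 h2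
      have h2 : (IC X' C' hC').comap O₂.ι = ⊤ := by
        refine S17083.comap_eq_top _ _ fun y hy => ?_
        have hy' : O₂.ι y ∈ ((IC X' C' hC').support : Set X') := hy
        rw [support_IC] at hy'
        exact y.2 hy'
      rw [h1, Scheme.IdealSheafData.comap_sup, h2, top_sup_eq]

end Main

end K974.BcKer
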