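import Mathlib.Algebra.Category.Ring.Constructions
import Mathlib.RingTheory.TensorProduct.IsBaseChangeFree
import Mathlib.RingTheory.Localization.Module
import Mathlib.RingTheory.Localization.Away.Basic
import Mathlib.LinearAlgebra.Dimension.Free
import Mathlib.LinearAlgebra.FiniteDimensional.Basic
import Mathlib.LinearAlgebra.InvariantBasisNumber
import Mathlib.RingTheory.FiniteType

/-!
# Ranks of algebras under base change and localization
-/

set_option autoImplicit false
universe u
open CategoryTheory CategoryTheory.Limits

namespace K974.BcRing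

theorem basis_of_isPushout {A B A' B' : CommRingCat.{u}} {a : A ⟶ B} {f : A ⟶ A'} {g : B ⟶ B'} {b : A' ⟶ B'}
    (h : IsPushout a f g b) {ι : Type*} (hb : letI := a.hom.toAlgebra; Nonempty (Module.Basis ι A B)) :
    letI := b.hom.toAlgebra; Nonempty (Module.Basis ι A' B') := by
  letI := a.hom.toAlgebra
  letI := f.hom.toAlgebra
  letI := g.hom.toAlgebra
  letI := b.hom.toAlgebra
  letI : Algebra A B' := (g.hom.comp a.hom).toAlgebra
  have t1 : IsScalarTower A B B' := IsScalarTower.of_algebraMap_eq fun _ => rfl
  have t2 : IsScalarTower A A' B' := IsScalarTower.of_algebraMap_eq fun x => congr($(h.w) x)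
  have h1 : IsPushout (CommRingCat.ofHom (algebraMap A B)) (CommRingCat.ofHom (algebraMap A A'))
      (CommRingCat.ofHom (algebraMap B B')) (CommRingCat.ofHom (algebraMap A' B')) := h
  have h2 : Algebra.IsPushout A B A' B' := CommRingCat.isPushout_iff_isPushout.mp h1
  have h3 : Algebra.IsPushout A A' B B' := h2.symm
  obtain ⟨β⟩ := hb
  exact ⟨IsBaseChange.basis β h3.out⟩

theorem basis_of_isLocalization {A B : Type u} [CommRing A] [CommRing B] (b : A →+* B) {ι : Type*}
    (hb : letI := b.toAlgebra; Nonempty (Module.Basis ι A B)) {A' B' : Type u} [CommRing A'] [CommRing B']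
    (p : A →+* A') (q : B →+* B') (c : A' →+* B') (hc : c.comp p = q.comp b) (e : A)
    (hp : letI := p.toAlgebra; IsLocalization.Away e A') (hq : letI := q.toAlgebra; IsLocalization.Away (b e) B') :
    letI := c.toAlgebra; Nonempty (Module.Basis ι A' B') := by
  letI := b.toAlgebra
  letI := p.toAlgebra
  letI := q.toAlgebra
  letI := c.toAlgebra
  letI : Algebra A B' := (c.comp p).toAlgebra
  have t1 : IsScalarTower A A' B' := IsScalarTower.of_algebraMap_eq fun _ => rfl
  have t2 : IsScalarTower A B B' := IsScalarTower.of_algebraMap_eq fun x => congr($hc x)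
  obtain ⟨β⟩ := hb
  have h1 : IsLocalization (Algebra.algebraMapSubmonoid B (Submonoid.powers e)) B' := by
    have h2 : Algebra.algebraMapSubmonoid B (Submonoid.powers e) = Submonoid.powers (b e) := by
      rw [Algebra.algebraMapSubmonoid, Submonoid.map_powers]
      rfl
    rw [h2]
    exact hq
  exact ⟨β.localizationLocalization A' (Submonoid.powers e) B'⟩

theorem finrank_of_basis {K A B : Type u} [Field K] [CommRing A] [Nontrivial A] [CommRing B] (c : A →+* B) {n : ℕ}
    (hb : letI := c.toAlgebra; Nonempty (Module.Basis (Fin n) A B)) (κ : K →+* A) (κ' : K →+* B)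
    (hκ : κ' = c.comp κ) :
    letI := Module.compHom A κ
    letI := Module.compHom B κ'
    Module.finrank K B = n * Module.finrank K A := by
  subst hκ
  letI := c.toAlgebra
  letI : Algebra K A := κ.toAlgebra
  letI : Algebra K B := (c.comp κ).toAlgebra
  have t : IsScalarTower K A B := IsScalarTower.of_algebraMap_eq fun _ => rfl
  obtain ⟨β⟩ := hb
  have : Module.Free A B := Module.Free.of_basis β
  have h1 : Module.finrank A B = n := by rw [Module.finrank_eq_card_basis β, Fintype.card_fin]
  change @Module.finrank K B _ _ Algebra.toModule = n * @Module.finrank K A _ _ Algebra.toModule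
  rw [← Module.finrank_mul_finrank K A B, h1, mul_comm]

theorem exists_basis {k A B : Type u} [Field k] [CommRing A] (hA : IsField A) [CommRing B] (c : A →+* B) {n : ℕ}
    (κ : k →+* A) (κ' : k →+* B) (hκ : κ' = c.comp κ)
    (hfA : letI := Module.compHom A κ; Module.Finite k A)
    (hfB : letI := Module.compHom B κ'; Module.Finite k B)
    (h : letI := Module.compHom A κ
      letI := Module.compHom B κ'
      Module.finrank k B = n * Module.finrank k A) :
    letI := c.toAlgebra
    Nonempty (Module.Basis (Fin n) A B) := by
  subst hκ
  let := hA.toField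
  letI := c.toAlgebra
  letI : Algebra k A := κ.toAlgebra
  letI : Algebra k B := (c.comp κ).toAlgebra
  have t : IsScalarTower k A B := IsScalarTower.of_algebraMap_eq fun _ => rfl
  have f1 : Module.Finite k A := hfA
  have f2 : Module.Finite k B := hfB
  have f3 : Module.Finite A B := Module.Finite.of_restrictScalars_finite k A B
  have h1 : Module.finrank k A * Module.finrank A B = Module.finrank k B := Module.finrank_mul_finrank k A B
  have h2 : Module.finrank k B = n * Module.finrank k A := h
  have h3 : 0 < Module.finrank k A := Module.finrank_pos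
  have h4 : Module.finrank A B = n := by
    rw [h2, mul_comm] at h1
    exact Nat.eq_of_mul_eq_mul_right h3 h1
  exact ⟨Module.finBasisOfFinrankEq A B h4⟩

end K974.BcRing
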