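import Groth.Agent.Sga2.IdemClopen
import Groth.Agent.Curves.K974.BcRing
import Mathlib.AlgebraicGeometry.Morphisms.Flat

/-!
# Global functions on open and closed pieces of a flat base change
-/

set_option autoImplicit false
universe u
open CategoryTheory CategoryTheory.Limits AlgebraicGeometry TopologicalSpace Opposite

namespace K974.BcSec

open Groth.Agent

/-- Localization at a global function. -/
theorem isLocalization_ι_appTop {Y : Scheme.{u}} [CompactSpace Y] [QuasiSeparatedSpace Y] (a : Γ(Y, ⊤))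
    (V : Y.Opens) (hV : V = Y.basicOpen a) :
    @IsLocalization.Away _ _ a Γ(V, ⊤) _ V.ι.appTop.hom.toAlgebra := by
  subst hV
  let _ := (Y.basicOpen a).ι.appTop.hom.toAlgebra
  have h1 : IsLocalization.Away a Γ(Y, Y.basicOpen a) :=
    isLocalization_basicOpen_of_qcqs isCompact_univ isQuasiSeparated_univ a
  let e : Γ(Y, Y.basicOpen a) ≃+* Γ(Y.basicOpen a, ⊤) :=
    (Y.basicOpen a).topIso.symm.commRingCatIsoToRingEquiv
  refine IsLocalization.isLocalization_of_algEquiv (Submonoid.powers a)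
    (AlgEquiv.ofRingEquiv (f := e) ?_)
  intro x
  change ((Y.presheaf.map (homOfLE (Y.basicOpen_le a)).op ≫ (Y.basicOpen a).topIso.inv).hom x) =
    (Y.basicOpen a).ι.appTop.hom x
  rw [Scheme.Opens.topIso_inv, Scheme.Opens.ι_appTop]
  have h3 : Y.presheaf.map (homOfLE (Y.basicOpen_le a)).op ≫
      Y.presheaf.map (eqToHom (Y.basicOpen a).ι_image_top).op =
      Y.presheaf.map (homOfLE (x := (Y.basicOpen a).ι ''ᵁ ⊤) (y := ⊤) le_top).op := by
    rw [← Functor.map_comp]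
    rfl
  exact congrArg (fun t => CommRingCat.Hom.hom t x) h3

theorem exists_basicOpen_eq {Y : Scheme.{u}} (U : Y.Opens) (hU : IsClosed (U : Set Y)) :
    ∃ e : Γ(Y, ⊤), U = Y.basicOpen e := by
  let V' : Y.Opens := ⟨(U : Set Y)ᶜ, hU.isOpen_compl⟩
  have h1 : U ⊔ V' = ⊤ := by ext z; simp [V']
  have h2 : U ⊓ V' = ⊥ := by ext z; simp [V']
  obtain ⟨e, he⟩ := Groth.Agent.Sga2.IdemClopen.exists_isInd h1 h2
  exact ⟨e, (he.basicOpen_eq h1).symm⟩

theorem isPushout_sections {Z W S T : Scheme.{u}} {p : W ⟶ Z} {q : W ⟶ T} {f : Z ⟶ S} {s : T ⟶ S} [IsAffine S]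
    [IsAffine T] [Flat s] (H : IsPullback p q f s) [CompactSpace Z] [QuasiSeparatedSpace Z] :
    IsPushout f.appTop s.appTop p.appTop q.appTop := by
  have h := (isIso_pushoutSection_iff H (US := ⊤) (UT := ⊤) (UX := ⊤) (UY := ⊤) le_top le_top (by simp)).mp
    (isIso_pushoutSection_of_isQuasiSeparated_of_flat_right H _ _ _ (isAffineOpen_top S) (isAffineOpen_top T)
      isCompact_univ isQuasiSeparated_univ)
  simpa [Scheme.Hom.appLE, Scheme.Hom.appTop] using h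

theorem isPushout_rel {D Z W T₁ S S' : Scheme.{u}} [IsAffine S] [IsAffine S'] {s : S' ⟶ S} [Flat s] {j : D ⟶ Z}
    {τ : T₁ ⟶ W} {pW : W ⟶ Z} {pT : T₁ ⟶ D} {f : Z ⟶ S} {q : W ⟶ S'} (HZ : IsPullback pW q f s)
    (HD : IsPullback pT (τ ≫ q) (j ≫ f) s) (hc : pT ≫ j = τ ≫ pW) [CompactSpace Z] [QuasiSeparatedSpace Z]
    [CompactSpace D] [QuasiSeparatedSpace D] :
    IsPushout j.appTop pW.appTop pT.appTop τ.appTop := by
  have h1 := isPushout_sections HZ
  have h2 := isPushout_sections HD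
  rw [Scheme.Hom.comp_appTop, Scheme.Hom.comp_appTop] at h2
  refine IsPushout.of_left h2 ?_ h1
  rw [← Scheme.Hom.comp_appTop, ← Scheme.Hom.comp_appTop, hc]

theorem basis_piece {D Z W T₁ S S' : Scheme.{u}} [IsAffine S] [IsAffine S'] {s : S' ⟶ S} [Flat s] {j : D ⟶ Z}
    {τ : T₁ ⟶ W} {pW : W ⟶ Z} {pT : T₁ ⟶ D} {f : Z ⟶ S} {q : W ⟶ S'} (HZ : IsPullback pW q f s)
    (HD : IsPullback pT (τ ≫ q) (j ≫ f) s) (hc : pT ≫ j = τ ≫ pW) [CompactSpace Z] [QuasiSeparatedSpace Z]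
    [CompactSpace D] [QuasiSeparatedSpace D] [CompactSpace W] [QuasiSeparatedSpace W]
    [CompactSpace T₁] [QuasiSeparatedSpace T₁] {ι : Type*}
    (hb : letI := j.appTop.hom.toAlgebra; Nonempty (Module.Basis ι Γ(Z, ⊤) Γ(D, ⊤)))
    (U : W.Opens) (hU : IsClosed (U : Set W)) :
    letI := (τ ∣_ U).appTop.hom.toAlgebra
    Nonempty (Module.Basis ι Γ(U, ⊤) Γ(τ ⁻¹ᵁ U, ⊤)) := by
  have h1 := BcRing.basis_of_isPushout (isPushout_rel HZ HD hc) hb
  obtain ⟨e, he⟩ := exists_basicOpen_eq U hU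
  have he' : τ ⁻¹ᵁ U = T₁.basicOpen (τ.appTop.hom e) := by
    rw [he, Scheme.preimage_basicOpen_top]
  refine BcRing.basis_of_isLocalization τ.appTop.hom h1 U.ι.appTop.hom (τ ⁻¹ᵁ U).ι.appTop.hom
    (τ ∣_ U).appTop.hom ?_ e (isLocalization_ι_appTop e U he) (isLocalization_ι_appTop _ _ he')
  rw [← CommRingCat.hom_comp, ← CommRingCat.hom_comp, ← Scheme.Hom.comp_appTop, ← Scheme.Hom.comp_appTop,
    morphismRestrict_ι]

end K974.BcSec
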