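import Groth.Agent.Curves.K974.BcKer
import Groth.Agent.Curves.K974.BcSec
import Groth.Agent.CurvesC.TailNum
import Groth.Agent.S0223
import Groth.Agent.S1535
import Groth.Agent.S0558

/-!
# Components of `X_K` over a smooth component of `X`: numerical invariants
-/

set_option autoImplicit false
universe u
open CategoryTheory CategoryTheory.Limits AlgebraicGeometry TopologicalSpace Opposite

namespace K974.BcMain

open Groth.Agent Groth.Agent.CurvesC Groth.Agent.CurvesC.CurveNum Groth.Agent.CurvesC.TailNum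
  Groth.Agent.CurvesC.CompGeom

section Iso

variable {k : Type u} [Field k] {X : Scheme.{u}} [X.Over (Spec (CommRingCat.of k))]

attribute [local instance] topMod in
/-- `H^0(X, O_X/J)` through any closed immersion with ideal `J`. -/
theorem finrank_zero_of_ker {Y : Scheme.{u}} (j : Y ⟶ X) [IsClosedImmersion j] {J : X.IdealSheafData}
    (hJ : j.ker = J) :
    letI : Y.Over (Spec (CommRingCat.of k)) := ⟨j ≫ (X ↘ Spec (CommRingCat.of k))⟩
    Module.finrank k (Coh.HH X (ClSub.quotMod J) 0) = Module.finrank k (Coh.Γtop Y) := by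
  subst hJ
  letI : Y.Over (Spec (CommRingCat.of k)) := ⟨j ≫ (X ↘ Spec (CommRingCat.of k))⟩
  letI := subOver k X j.ker
  rw [← finrank_quotMod_zero k X j.ker]
  have hθ : IsIso j.toImage := inferInstance
  have hθ' : IsIso (j.toImage.appTop) := inferInstanceAs (IsIso (j.toImage.app ⊤))
  have hb : Function.Bijective (topMap j.toImage) := ConcreteCategory.bijective_of_isIso (j.toImage.appTop)
  let e : Coh.Γtop j.ker.subscheme →ₗ[k] Coh.Γtop Y :=
    { __ := (topMap j.toImage).toAddMonoidHom
      map_smul' := fun r x => by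
        have h : Coh.toGlobal (Y ↘ (Spec (CommRingCat.of k))) r =
            topMap j.toImage (Coh.toGlobal (j.ker.subscheme ↘ (Spec (CommRingCat.of k))) r) := by
          rw [← toGlobal_comp]
          congr 2
          exact (Scheme.Hom.toImage_imageι_assoc j _).symm
        change topMap j.toImage ((Coh.toGlobal (j.ker.subscheme ↘ (Spec (CommRingCat.of k))) r) * x) =
          (Coh.toGlobal (Y ↘ (Spec (CommRingCat.of k))) r) * topMap j.toImage x
        rw [h, map_mul] }
  exact (LinearEquiv.ofBijective e hb).finrank_eq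

theorem isIso_unitToPush {Z Z' : Scheme.{u}} (e : Z ⟶ Z') [IsIso e] :
    IsIso (C := Z'.Modules) (ClSub.unitToPush e) := by
  rw [Scheme.Modules.Hom.isIso_iff_isIso_app]
  intro U
  rw [ConcreteCategory.isIso_iff_bijective]
  exact ConcreteCategory.bijective_of_isIso (e.app U)

theorem subsingleton_of_ker {X Y : Scheme.{u}} (j : Y ⟶ X) [IsClosedImmersion j] {J : X.IdealSheafData}
    (hJ : j.ker = J) (n : ℕ) (h : Subsingleton (Coh.HH Y (Coh.structureModule Y) n)) :
    Subsingleton (Coh.HH J.subscheme (Coh.structureModule J.subscheme) n) := by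
  subst hJ
  have hθ : IsIso j.toImage := inferInstance
  have h1 := isIso_unitToPush j.toImage
  have h2 : Subsingleton (Coh.HH j.ker.subscheme
      ((Scheme.Modules.pushforward j.toImage).obj (Coh.structureModule Y)) n) :=
    (hhPush j.toImage (Coh.structureModule Y) n).symm.toEquiv.subsingleton
  exact (CurvesA.HHMap.equiv (asIso (ClSub.unitToPush j.toImage)) n).toEquiv.subsingleton

theorem subsingleton_of_clopen {Y : Scheme.{u}} [Y.Over (Spec (CommRingCat.of k))] (U : Y.Opens)
    (hU : IsClosed (U : Set Y)) (h : Subsingleton (Coh.HH Y (Coh.structureModule Y) 1)) :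
    Subsingleton (Coh.HH U (Coh.structureModule U) 1) := by
  have hc := K326.Clopen.Compl.of_isClosed hU
  obtain ⟨σ, hσ⟩ := K326.Clopen.exists_sigma hc (Coh.structureModule Y)
  have hs := K326.Clopen.sigma_un hc hσ
  have h1 : Subsingleton (Coh.HH Y ((Scheme.Modules.pushforward U.ι).obj
      ((Coh.structureModule Y).restrict U.ι)) 1) := by
    refine ⟨fun a b => ?_⟩
    have h2 : ∀ a, CurvesA.HHMap.map (K326.Clopen.un U (Coh.structureModule Y)) 1
        (CurvesA.HHMap.map σ 1 a) = a := fun a => by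
      rw [← CurvesA.HHMap.map_comp_apply, hs, CurvesA.HHMap.map_id_apply]
    rw [← h2 a, ← h2 b, Subsingleton.elim (CurvesA.HHMap.map σ 1 a) (CurvesA.HHMap.map σ 1 b)]
  have hQ : Coh.IsQCoh ((Coh.structureModule Y).restrict U.ι) :=
    CohqB.LocalQC.isQCoh_restrict U.ι (UnitCoh.isQCoh_unit Y)
  have h3 : Subsingleton (Coh.HH U ((Coh.structureModule Y).restrict U.ι) 1) :=
    (K326.Clopen.edge_bijective k hc hQ 1).2.subsingleton
  exact (CurvesA.HHMap.equiv (Scheme.Modules.restrictUnitIso U.ι) 1).symm.toEquiv.subsingleton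

end Iso

section Geom

theorem isNoetherian_of_proper (k : Type u) [Field k] (X : Scheme.{u}) [X.Over (Spec (CommRingCat.of k))]
    [IsProper (X ↘ (Spec (CommRingCat.of k)))] : IsNoetherian X := by
  have hLN : IsLocallyNoetherian X := LocallyOfFiniteType.isLocallyNoetherian (X ↘ (Spec (CommRingCat.of k)))
  have hCS : CompactSpace X := QuasiCompact.compactSpace_of_compactSpace (X ↘ (Spec (CommRingCat.of k)))
  exact { }

variable (k : Type u) [Field k] (X : Scheme.{u}) [X.Over (Spec (CommRingCat.of k))]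
  [IsProper (X ↘ (Spec (CommRingCat.of k)))] (C : Set X) (hC : C ∈ irreducibleComponents (X : Type u))
  (K : Type u) [Field K] [Algebra k K]

/-- The structure of a `K`-scheme on the base change. -/
noncomputable abbrev bcOver : (Curv2.bc k X K).Over (Spec (CommRingCat.of K)) := ⟨Curv2.bcSnd k X K⟩

theorem isProper_bcSnd : IsProper (Curv2.bcSnd k X K) :=
  MorphismProperty.of_isPullback (IsPullback.of_hasPullback (X ↘ Spec (CommRingCat.of k))
    (Spec.map (CommRingCat.ofHom (algebraMap k K)))) inferInstance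

theorem isNoetherian_bc : IsNoetherian (Curv2.bc k X K) := by
  let _ := bcOver k X K
  have : IsProper ((Curv2.bc k X K) ↘ (Spec (CommRingCat.of K))) := isProper_bcSnd k X K
  exact isNoetherian_of_proper K (Curv2.bc k X K)

/-- The base change of the component. -/
noncomputable abbrev W : Scheme.{u} := pullback (IC X C hC).subschemeι (Curv2.bcFst k X K)

/-- The closed immersion of the base change of the component. -/
noncomputable abbrev iW : W k X C hC K ⟶ Curv2.bc k X K := pullback.snd _ _

/-- The base change of the intersection. -/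
noncomputable abbrev T : Scheme.{u} := pullback (IC X C hC ⊔ IX' X C hC).subschemeι (Curv2.bcFst k X K)

/-- The closed immersion of the base change of the intersection. -/
noncomputable abbrev iT : T k X C hC K ⟶ Curv2.bc k X K := pullback.snd _ _

/-- The inclusion of the intersection, base changed. -/
noncomputable abbrev tau : T k X C hC K ⟶ W k X C hC K :=
  pullback.lift (pullback.fst _ _ ≫ jT X C hC) (pullback.snd _ _) (by
    rw [Category.assoc, Scheme.IdealSheafData.inclusion_subschemeι, pullback.condition])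

theorem tau_iW : tau k X C hC K ≫ iW k X C hC K = iT k X C hC K := pullback.lift_snd _ _ _

theorem tau_fst : tau k X C hC K ≫ pullback.fst _ _ = pullback.fst _ _ ≫ jT X C hC := pullback.lift_fst _ _ _

theorem isPullback_W : IsPullback (pullback.fst _ _) (iW k X C hC K) (IC X C hC).subschemeι (Curv2.bcFst k X K) :=
  IsPullback.of_hasPullback _ _

theorem isPullback_T : IsPullback (pullback.fst _ _) (iT k X C hC K) (IC X C hC ⊔ IX' X C hC).subschemeι
    (Curv2.bcFst k X K) :=
  IsPullback.of_hasPullback _ _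

theorem isPullback_WK : IsPullback (pullback.fst _ _) (iW k X C hC K ≫ Curv2.bcSnd k X K)
    ((IC X C hC).subschemeι ≫ (X ↘ (Spec (CommRingCat.of k)))) (Spec.map (CommRingCat.ofHom (algebraMap k K))) :=
  (isPullback_W k X C hC K).paste_vert (IsPullback.of_hasPullback _ _)

theorem isPullback_TK : IsPullback (pullback.fst _ _) (iT k X C hC K ≫ Curv2.bcSnd k X K)
    ((IC X C hC ⊔ IX' X C hC).subschemeι ≫ (X ↘ (Spec (CommRingCat.of k))))
    (Spec.map (CommRingCat.ofHom (algebraMap k K))) :=
  (isPullback_T k X C hC K).paste_vert (IsPullback.of_hasPullback _ _)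

theorem smooth_W (hsm : Smooth ((IC X C hC).subschemeι ≫ (X ↘ (Spec (CommRingCat.of k))))) :
    Smooth (iW k X C hC K ≫ Curv2.bcSnd k X K) :=
  MorphismProperty.of_isPullback (isPullback_WK k X C hC K) hsm

theorem isDomain_W (hsm : Smooth ((IC X C hC).subschemeι ≫ (X ↘ (Spec (CommRingCat.of k)))))
    (w : W k X C hC K) : IsDomain ((W k X C hC K).presheaf.stalk w) := by
  letI : (W k X C hC K).Over (Spec (CommRingCat.of K)) := ⟨iW k X C hC K ≫ Curv2.bcSnd k X K⟩
  have h1 : Smooth ((W k X C hC K) ↘ (Spec (CommRingCat.of K))) := smooth_W k X C hC K hsm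
  have h2 := Groth.Agent.S1535.result K (W k X C hC K) w
  exact Groth.Agent.S0558.result _

theorem isReduced_W (hsm : Smooth ((IC X C hC).subschemeι ≫ (X ↘ (Spec (CommRingCat.of k))))) :
    AlgebraicGeometry.IsReduced (W k X C hC K) := by
  have : ∀ w : W k X C hC K, _root_.IsReduced ((W k X C hC K).presheaf.stalk w) := fun w => by
    have := isDomain_W k X C hC K hsm w
    infer_instance
  exact isReduced_of_isReduced_stalk _

theorem isProper_W : IsProper (iW k X C hC K ≫ Curv2.bcSnd k X K) := by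
  have := isProper_bcSnd k X K
  infer_instance

theorem isNoetherian_W : IsNoetherian (W k X C hC K) := by
  let _ : (W k X C hC K).Over (Spec (CommRingCat.of K)) := ⟨iW k X C hC K ≫ Curv2.bcSnd k X K⟩
  have : IsProper ((W k X C hC K) ↘ (Spec (CommRingCat.of K))) := isProper_W k X C hC K
  exact isNoetherian_of_proper K (W k X C hC K)

variable {C' : Set (Curv2.bc k X K)} (hC' : C' ∈ irreducibleComponents (Curv2.bc k X K : Type u))

theorem range_iW : Set.range (iW k X C hC K) = (Curv2.bcFst k X K) ⁻¹' C := by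
  have := isNoetherian_of_proper k X
  have := isNoetherian_bc k X K
  exact BcKer.range_left (isPullback_W k X C hC K)

include hC' in
theorem preimage_mem (hsub : C' ⊆ (Curv2.bcFst k X K) ⁻¹' C) :
    iW k X C hC K ⁻¹' C' ∈ irreducibleComponents (W k X C hC K : Type u) := by
  have hcl : IsClosedImmersion (iW k X C hC K) := inferInstance
  refine BcKer.preimage_mem hcl.isClosedEmbedding.isEmbedding hC' ?_
  have h := range_iW k X C hC K
  exact h ▸ hsub

include hC' in
theorem isOpen_preimage (hsm : Smooth ((IC X C hC).subschemeι ≫ (X ↘ (Spec (CommRingCat.of k)))))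
    (hsub : C' ⊆ (Curv2.bcFst k X K) ⁻¹' C) : IsOpen (iW k X C hC K ⁻¹' C') := by
  have := isNoetherian_W k X C hC K
  exact (Groth.Agent.S14401.result (W k X C hC K) (isDomain_W k X C hC K hsm)).1 _
    (preimage_mem k X C hC K hC' hsub)

/-- The part of the base change of the component lying in `C'`. -/
noncomputable def U (hsm : Smooth ((IC X C hC).subschemeι ≫ (X ↘ (Spec (CommRingCat.of k)))))
    (hsub : C' ⊆ (Curv2.bcFst k X K) ⁻¹' C) : (W k X C hC K).Opens :=
  ⟨iW k X C hC K ⁻¹' C', isOpen_preimage k X C hC K hC' hsm hsub⟩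

theorem disjoint (hsm : Smooth ((IC X C hC).subschemeι ≫ (X ↘ (Spec (CommRingCat.of k)))))
    {C'' : Set (Curv2.bc k X K)} (hC' : C' ∈ irreducibleComponents (Curv2.bc k X K : Type u))
    (hC'' : C'' ∈ irreducibleComponents (Curv2.bc k X K : Type u))
    (hsub : C' ⊆ (Curv2.bcFst k X K) ⁻¹' C) (hsub' : C'' ⊆ (Curv2.bcFst k X K) ⁻¹' C) (hne : C' ≠ C'') :
    Disjoint C' C'' := by
  have := isNoetherian_W k X C hC K
  rw [Set.disjoint_iff_forall_ne]
  rintro x hx _ hx' rfl
  apply hne
  have hr := range_iW k X C hC K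
  obtain ⟨w, rfl⟩ : x ∈ Set.range (iW k X C hC K) := hr ▸ hsub hx
  have hu := (Groth.Agent.S14401.result (W k X C hC K) (isDomain_W k X C hC K hsm)).2 w
  have h1 := hu.unique ⟨preimage_mem k X C hC K hC' hsub, hx⟩ ⟨preimage_mem k X C hC K hC'' hsub', hx'⟩
  rw [← Set.image_preimage_eq_of_subset (f := iW k X C hC K) (s := C') (hr ▸ hsub),
    ← Set.image_preimage_eq_of_subset (f := iW k X C hC K) (s := C'') (hr ▸ hsub'), h1]

include hC' in
theorem nonempty_U (hsm : Smooth ((IC X C hC).subschemeι ≫ (X ↘ (Spec (CommRingCat.of k)))))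
    (hsub : C' ⊆ (Curv2.bcFst k X K) ⁻¹' C) : Nonempty (U k X C hC K hC' hsm hsub : Scheme.{u}) := by
  obtain ⟨x, hx⟩ := hC'.1.nonempty
  have hr := range_iW k X C hC K
  obtain ⟨w, rfl⟩ : x ∈ Set.range (iW k X C hC K) := hr ▸ hsub hx
  exact ⟨⟨w, hx⟩⟩

theorem exists_basis_jT {n : ℕ}
    (hn : Module.finrank k (Coh.HH X (ClSub.quotMod (IC X C hC ⊔ IX' X C hC)) 0) =
      n * Module.finrank k (Coh.HH X (ClSub.quotMod (IC X C hC)) 0)) :
    letI := (jT X C hC).appTop.hom.toAlgebra
    Nonempty (Module.Basis (Fin n) Γ((IC X C hC).subscheme, ⊤) Γ((IC X C hC ⊔ IX' X C hC).subscheme, ⊤)) := by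
  let _ := subOver k X (IC X C hC)
  let _ := subOver k X (IC X C hC ⊔ IX' X C hC)
  let _ := topMod k (IC X C hC).subscheme
  let _ := topMod k (IC X C hC ⊔ IX' X C hC).subscheme
  have hfJ := finite_quotMod k X (IC X C hC) 0
  have hfK := finite_quotMod k X (IC X C hC ⊔ IX' X C hC) 0
  have hfJ' : Module.Finite k (Coh.Γtop (IC X C hC).subscheme) :=
    Module.Finite.equiv ((quotEquiv k X (IC X C hC) 0).symm.trans (hZeroTop k (IC X C hC).subscheme))
  have hfK' : Module.Finite k (Coh.Γtop (IC X C hC ⊔ IX' X C hC).subscheme) :=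
    Module.Finite.equiv ((quotEquiv k X (IC X C hC ⊔ IX' X C hC) 0).symm.trans
      (hZeroTop k (IC X C hC ⊔ IX' X C hC).subscheme))
  rw [← finrank_quotMod_zero, ← finrank_quotMod_zero] at hn
  refine BcRing.exists_basis (A := Γ((IC X C hC).subscheme, ⊤)) (B := Γ((IC X C hC ⊔ IX' X C hC).subscheme, ⊤))
    (isField_Γtop k X (IC X C hC)) (topMap (jT X C hC))
    (Coh.toGlobal ((IC X C hC).subscheme ↘ (Spec (CommRingCat.of k))))
    (Coh.toGlobal ((IC X C hC ⊔ IX' X C hC).subscheme ↘ (Spec (CommRingCat.of k)))) ?_ hfJ' hfK' hn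
  refine RingHom.ext fun r => ?_
  refine Eq.trans ?_ (toGlobal_comp (jT X C hC) _ r)
  congr 2
  exact (Scheme.IdealSheafData.inclusion_subschemeι_assoc _ _).symm

/-- The rank of the intersection over the component is unchanged. -/
theorem finrank_piece (hsm : Smooth ((IC X C hC).subschemeι ≫ (X ↘ (Spec (CommRingCat.of k))))) {n : ℕ}
    (hn : Module.finrank k (Coh.HH X (ClSub.quotMod (IC X C hC ⊔ IX' X C hC)) 0) =
      n * Module.finrank k (Coh.HH X (ClSub.quotMod (IC X C hC)) 0))
    (hsub : C' ⊆ (Curv2.bcFst k X K) ⁻¹' C) :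
    letI := bcOver k X K
    Module.finrank K (Coh.HH (Curv2.bc k X K) (ClSub.quotMod
        (IC (Curv2.bc k X K) C' hC' ⊔ IX' (Curv2.bc k X K) C' hC')) 0) =
      n * Module.finrank K (Coh.HH (Curv2.bc k X K) (ClSub.quotMod (IC (Curv2.bc k X K) C' hC')) 0) := by
  letI := bcOver k X K
  have hNX := isNoetherian_of_proper k X
  have hNX' := isNoetherian_bc k X K
  have hNW := isNoetherian_W k X C hC K
  have hred := isReduced_W k X C hC K hsm
  have hr := range_iW k X C hC K
  have hsub' : C' ⊆ Set.range (iW k X C hC K) := hr ▸ hsub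
  set V := U k X C hC K hC' hsm hsub with hV
  have hVC : (V : Set (W k X C hC K)) = iW k X C hC K ⁻¹' C' := rfl
  have h1 : IsClosedImmersion (V.ι ≫ iW k X C hC K) := BcKer.isClosedImmersion_piece hC' hVC
  have h2 : (V.ι ≫ iW k X C hC K).ker = IC (Curv2.bc k X K) C' hC' := BcKer.ker_piece hVC hsub'
  have h3 : IsClosedImmersion ((tau k X C hC K ⁻¹ᵁ V).ι ≫ iT k X C hC K) :=
    BcKer.isClosedImmersion_inter (i := iW k X C hC K) hC' hVC
  have h4 : ((tau k X C hC K ⁻¹ᵁ V).ι ≫ iT k X C hC K).ker =
      IC (Curv2.bc k X K) C' hC' ⊔ IX' (Curv2.bc k X K) C' hC' :=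
    BcKer.ker_inter (isPullback_W k X C hC K) (isPullback_T k X C hC K) (tau_iW k X C hC K) hsub hVC
  rw [finrank_zero_of_ker (k := K) _ h4, finrank_zero_of_ker (k := K) _ h2]
  have hne : Nonempty (V : Scheme.{u}) := nonempty_U k X C hC K hC' hsm hsub
  have hnt : Nontrivial Γ((V : Scheme.{u}), ⊤) := by
    have : Nonempty (⊤ : (V : Scheme.{u}).Opens) := hne.map fun x => ⟨x, trivial⟩
    infer_instance
  have hcZ : NoetherianSpace (IC X C hC).subscheme := BcKer.noetherianSpace_of_isClosedImmersion (IC X C hC).subschemeι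
  have hcD : NoetherianSpace (IC X C hC ⊔ IX' X C hC).subscheme :=
    BcKer.noetherianSpace_of_isClosedImmersion (IC X C hC ⊔ IX' X C hC).subschemeι
  have hcT : NoetherianSpace (T k X C hC K) := BcKer.noetherianSpace_of_isClosedImmersion (iT k X C hC K)
  have hTK : IsPullback (pullback.fst _ _) (tau k X C hC K ≫ iW k X C hC K ≫ Curv2.bcSnd k X K)
      (jT X C hC ≫ (IC X C hC).subschemeι ≫ (X ↘ (Spec (CommRingCat.of k))))
      (Spec.map (CommRingCat.ofHom (algebraMap k K))) := by
    rw [← Category.assoc, tau_iW, ← Category.assoc (jT X C hC), Scheme.IdealSheafData.inclusion_subschemeι]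
    exact isPullback_TK k X C hC K
  have hb := BcSec.basis_piece (isPullback_WK k X C hC K) hTK (tau_fst k X C hC K).symm
    (exists_basis_jT k X C hC hn) V (BcKer.isClosed_piece hC' hVC)
  refine BcRing.finrank_of_basis (A := Γ((V : Scheme.{u}), ⊤)) (B := Γ((tau k X C hC K ⁻¹ᵁ V : Scheme.{u}), ⊤))
    (topMap (tau k X C hC K ∣_ V)) hb _ _ ?_
  refine RingHom.ext fun r => ?_
  refine Eq.trans ?_ (toGlobal_comp (tau k X C hC K ∣_ V) _ r)
  congr 2
  change ((tau k X C hC K ⁻¹ᵁ V).ι ≫ iT k X C hC K) ≫ Curv2.bcSnd k X K =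
    (tau k X C hC K ∣_ V) ≫ (V.ι ≫ iW k X C hC K) ≫ Curv2.bcSnd k X K
  rw [Category.assoc, Category.assoc, ← Category.assoc (tau k X C hC K ∣_ V), morphismRestrict_ι, Category.assoc,
    ← Category.assoc (tau k X C hC K), tau_iW]

/-- The first cohomology of the components vanishes. -/
theorem subsingleton_piece (hsm : Smooth ((IC X C hC).subschemeι ≫ (X ↘ (Spec (CommRingCat.of k)))))
    (h1 : Subsingleton (Coh.HH (IC X C hC).subscheme (Coh.structureModule (IC X C hC).subscheme) 1))
    (hsub : C' ⊆ (Curv2.bcFst k X K) ⁻¹' C) :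
    Subsingleton (Coh.HH (IC (Curv2.bc k X K) C' hC').subscheme
      (Coh.structureModule (IC (Curv2.bc k X K) C' hC').subscheme) 1) := by
  have hNX := isNoetherian_of_proper k X
  have hNX' := isNoetherian_bc k X K
  have hred := isReduced_W k X C hC K hsm
  have hr := range_iW k X C hC K
  have hsub' : C' ⊆ Set.range (iW k X C hC K) := hr ▸ hsub
  set V := U k X C hC K hC' hsm hsub with hV
  have hVC : (V : Set (W k X C hC K)) = iW k X C hC K ⁻¹' C' := rfl
  have h2 : IsClosedImmersion (V.ι ≫ iW k X C hC K) := BcKer.isClosedImmersion_piece hC' hVC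
  have h3 : (V.ι ≫ iW k X C hC K).ker = IC (Curv2.bc k X K) C' hC' := BcKer.ker_piece hVC hsub'
  refine subsingleton_of_ker _ h3 1 ?_
  letI : (W k X C hC K).Over (Spec (CommRingCat.of K)) := ⟨iW k X C hC K ≫ Curv2.bcSnd k X K⟩
  letI := subOver k X (IC X C hC)
  have hpW : IsProper ((W k X C hC K) ↘ (Spec (CommRingCat.of K))) := isProper_W k X C hC K
  have hpZ : IsProper ((IC X C hC).subscheme ↘ (Spec (CommRingCat.of k))) :=
    inferInstanceAs (IsProper ((IC X C hC).subschemeι ≫ (X ↘ (Spec (CommRingCat.of k)))))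
  refine subsingleton_of_clopen (k := K) V (BcKer.isClosed_piece hC' hVC) ?_
  have h4 := Groth.Agent.S0223.finrank_eq k (IC X C hC).subscheme K (W k X C hC K) (pullback.fst _ _)
    (isPullback_WK k X C hC K) 1
  have h5 : Module.finrank k (Coh.HH (IC X C hC).subscheme (Coh.structureModule (IC X C hC).subscheme) 1) = 0 :=
    Module.finrank_zero_of_subsingleton
  rw [h5] at h4
  have h6 := Groth.Agent.S0002.result K (W k X C hC K) (Coh.structureModule (W k X C hC K)) (UnitCoh.isCoh_unit _) 1
  exact Module.finrank_zero_iff.mp h4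

theorem nonempty_support (hne : C ≠ Set.univ) (hsub : C' ⊆ (Curv2.bcFst k X K) ⁻¹' C) :
    ((IX' (Curv2.bc k X K) C' hC').support : Set (Curv2.bc k X K)).Nonempty := by
  have := isNoetherian_bc k X K
  refine support_IX'_nonempty _ _ _ fun h => hne ?_
  rw [Set.eq_univ_iff_forall]
  intro x
  obtain ⟨y, rfl⟩ := (Curv2.bcFst k X K).surjective x
  have : y ∈ C' := by rw [h]; trivial
  exact hsub this

include hC in
theorem sUnion_eq : (Curv2.bcFst k X K) ⁻¹' C =
    ⋃₀ {C' | C' ∈ irreducibleComponents (Curv2.bc k X K : Type u) ∧ C' ⊆ (Curv2.bcFst k X K) ⁻¹' C} := by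
  have := isNoetherian_of_proper k X
  have := isNoetherian_bc k X K
  have h := Groth.Agent.S10944.result (Curv2.bcFst k X K) C hC
  simp only [Set.image_subset_iff] at h
  exact h

include hC in
theorem finite_comps :
    {C' | C' ∈ irreducibleComponents (Curv2.bc k X K : Type u) ∧ C' ⊆ (Curv2.bcFst k X K) ⁻¹' C}.Finite := by
  have := isNoetherian_bc k X K
  exact (NoetherianSpace.finite_irreducibleComponents (α := (Curv2.bc k X K : Type u))).subset fun C' h => h.1

end Geom

end K974.BcMain
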