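import Groth.Agent.CurvSt.K896.ConNodal
import Groth.Agent.S6542
import Groth.Agent.Sga5.ProjSmooth

/-!
# A rational tail of a nodal curve is smooth over the base field
-/

set_option autoImplicit false
universe u
open CategoryTheory CategoryTheory.Limits AlgebraicGeometry TopologicalSpace IsLocalRing

namespace K974.TailSmooth

open Groth.Agent Groth.Agent.CurvesC.CompGeom Groth.Agent.CurvesC.QuotZero Groth.Agent.CurvesC.NodalPos
  Groth.Agent.Divis.CartierBasic Groth.Agent.CurvesB.Node K896 K896.Contract K896.PinchNode K896.Trans K896.ConNodal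

variable (k : Type u) [Field k] (X : Scheme.{u}) [X.Over (Spec (CommRingCat.of k))]
  [IsProper (X ↘ (Spec (CommRingCat.of k)))] (hdim : topologicalKrullDim X = 1) (hX : Curv2.AtWorstNodal k X)
  (C : Set X) (hC : C ∈ irreducibleComponents (X : Type u))

theorem one_le_dim {Z : Scheme.{u}} [IsIntegral Z] {x : Z} (h : x ≠ genericPoint Z) : 1 ≤ topologicalKrullDim Z := by
  let a : IrreducibleCloseds Z := ⟨closure {x}, isIrreducible_singleton.closure, isClosed_closure⟩
  let b : IrreducibleCloseds Z := ⟨Set.univ, (irreducibleSpace_def Z).mp inferInstance, isClosed_univ⟩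
  refine Order.one_le_krullDim_iff.mpr ⟨a, b, ?_⟩
  refine lt_of_le_of_ne (fun y _ => Set.mem_univ y) fun hab => h ?_
  have h1 : closure ({x} : Set Z) = Set.univ := congrArg (fun z : IrreducibleCloseds Z => (z : Set Z)) hab
  have h2 : IsGenericPoint x Set.univ := h1
  exact h2.eq (genericPoint_spec Z)

include hdim hX in
/-- The component is regular where it meets the rest of the curve. -/
theorem local_props [IsReduced X] (x : X) (hx : x ∈ C ∩ closure Cᶜ) :
    IsRegularLocalRing (X.presheaf.stalk x ⧸ stalkIdeal (IC X C hC) x) := by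
  have hN : IsNoetherian X := Groth.Agent.CurvesC.CurveCoh.noetherianSpace k X
  have hCcl := isClosed_of_mem_irreducibleComponents C hC
  have hxcl : IsClosed ({x} : Set X) := (Groth.Agent.CurvesC.TailGeom.finite_inter hdim.le hC).2 x hx
  obtain ⟨y, hyC, hy⟩ := exists_mem_notMem_closure X C hC
  obtain ⟨z, hz⟩ := QuasiSober.sober hC.1 hCcl
  obtain ⟨E, hE, hEC, hxE⟩ := (CompMeet.mem_closure_compl_iff hC x).mp hx.2
  obtain ⟨w, hw⟩ := QuasiSober.sober hE.1 (isClosed_of_mem_irreducibleComponents E hE)
  have hzx : z ⤳ x := hz.specializes hx.1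
  have hwx : w ⤳ x := hw.specializes hxE
  have hznot : z ∉ closure Cᶜ := fun h => hy ((hz.specializes hyC).mem_closed isClosed_closure h)
  have hwC : w ∉ C := by
    intro h
    apply hEC
    have h1 : E ⊆ C := by
      intro v hv
      exact (hw.specializes hv).mem_closed hCcl h
    exact h1.antisymm (hE.2 hC.1 h1)
  have hwne : w ≠ x := by
    rintro rfl
    exact hwC hx.1
  have hwX : w ∈ ((IX' X C hC).support : Set X) := by
    rw [support_IX']
    exact subset_closure hwC
  have key := NodeMeet.transversal k X hX (IX' X C hC) (IC X C hC) (CompMeet.radical_ker_ι _) (by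
    have h := Groth.Agent.Ega1.ReducedSub.radical_ker_eq (IC X C hC).subschemeι
    rwa [Scheme.IdealSheafData.ker_subschemeι] at h) (by
    rw [support_IC, support_IX']
    rw [Set.eq_univ_iff_forall]
    intro v
    by_cases hv : v ∈ C
    · exact Or.inr hv
    · exact Or.inl (subset_closure hv)) x hxcl
    hwx hwne hwX (by rw [support_IC]; exact hwC)
    hzx (by rintro rfl; exact hznot hx.2) (by rw [support_IX']; exact hznot) (by rw [support_IC]; exact hz.mem)
  exact key.2.2

theorem jT_ι (t : (IC X C hC ⊔ IX' X C hC).subscheme) :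
    (IC X C hC).subschemeι (jT X C hC t) = (IC X C hC ⊔ IX' X C hC).subschemeι t := by
  rw [← Scheme.Hom.comp_apply, Scheme.IdealSheafData.inclusion_subschemeι]

include hdim hX in
/-- The local ring of the component at an intersection point is normal. -/
theorem isIntegrallyClosed_stalk [IsReduced X] (t : (IC X C hC ⊔ IX' X C hC).subscheme) :
    IsIntegrallyClosed ((IC X C hC).subscheme.presheaf.stalk (jT X C hC t)) := by
  have hN : IsNoetherian X := Groth.Agent.CurvesC.CurveCoh.noetherianSpace k X
  have hx' : (IC X C hC).subschemeι (jT X C hC t) ∈ C ∩ closure Cᶜ := by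
    rw [jT_ι]; exact mem_inter X C hC t
  have h1 := local_props k X hdim hX C hC _ hx'
  let e := Groth.Agent.Divis.CartierStalk.stalkQuotEquiv (IC X C hC) (jT X C hC t)
  have h3 : IsRegularLocalRing ((IC X C hC).subscheme.presheaf.stalk (jT X C hC t)) :=
    IsRegularLocalRing.of_ringEquiv e
  have h4 : ringKrullDim ((IC X C hC).subscheme.presheaf.stalk (jT X C hC t)) ≤ 1 :=
    (CurvesA.DimOne.ringKrullDim_stalk_le _ _).trans (dim_C_le X C hC hdim.le)
  obtain ⟨h5, h6⟩ := Ega43.DedekindOpen.isDomain_isPrincipalIdealRing_of_regular_dim_le_one _ h4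
  infer_instance

include hdim in
theorem dim_C (t : (IC X C hC ⊔ IX' X C hC).subscheme) [IsNoetherian X] :
    topologicalKrullDim (IC X C hC).subscheme = 1 := by
  refine le_antisymm (dim_C_le X C hC hdim.le) (one_le_dim (x := jT X C hC t) fun h => ?_)
  apply range_jT_ne X C hC
  rw [← Set.univ_subset_iff]
  have h1 : IsClosed (Set.range (jT X C hC)) := (jT X C hC).isClosedEmbedding.isClosed_range
  intro z _
  exact ((genericPoint_spec (IC X C hC).subscheme).specializes (Set.mem_univ z)).mem_closed h1 ⟨t, h⟩

/-- A finite unramified extension of fields is étale. -/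
theorem smooth_map_of_unramified {k A : Type u} [Field k] [CommRing A] (hA : IsField A) (φ : k →+* A)
    (hfin : φ.Finite) (hu : φ.FormallyUnramified) : Smooth (Spec.map (CommRingCat.ofHom φ)) := by
  let := hA.toField
  algebraize [φ]
  have h1 : Algebra.FormallyUnramified k A := hu
  have h2 : Module.Finite k A := hfin
  have h3 : Algebra.IsSeparable k A := (Algebra.FormallyUnramified.iff_isSeparable k A).mp h1
  have h4 : Algebra.FormallyEtale k A := (Algebra.FormallyEtale.iff_isSeparable k A).mpr h3
  have h5 : Algebra.FinitePresentation k A := (Algebra.FinitePresentation.of_finiteType).mp inferInstance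
  have h6 : Algebra.Smooth k A := ⟨inferInstance, h5⟩
  rw [HasRingHomProperty.Spec_iff (P := @Smooth)]
  exact h6

/-- Functions on the component are unramified over the base field, for a tail. -/
theorem formallyUnramified_glob [IsReduced X] (hdim : topologicalKrullDim X = 1) (hX : Curv2.AtWorstNodal k X)
    (h : Curv2.IsRationalTail X C hC) :
    (glob ((IC X C hC).subschemeι ≫ (X ↘ (Spec (CommRingCat.of k))))).FormallyUnramified := by
  have hA : IsAffine (IC X C hC ⊔ IX' X C hC).subscheme := by
    have := h.2.1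
    have := h.2.2.1
    exact CurvesC.PointScheme.isAffine_of_subsingleton
  have h1 := Unram.formallyUnramified_glob (IC X C hC ⊔ IX' X C hC).subschemeι (X ↘ (Spec (CommRingCat.of k)))
    (isField_stalk_T k X hdim hX C hC) (resFS_T k X hdim hX C hC)
  have hb := bijective_jT k X C hC h
  have h2 : (glob ((IC X C hC ⊔ IX' X C hC).subschemeι ≫ (X ↘ (Spec (CommRingCat.of k))))) =
      (jT X C hC).appTop.hom.comp (glob ((IC X C hC).subschemeι ≫ (X ↘ (Spec (CommRingCat.of k))))) := by
    ext c
    have h3 : (IC X C hC ⊔ IX' X C hC).subschemeι ≫ (X ↘ (Spec (CommRingCat.of k))) =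
        jT X C hC ≫ (IC X C hC).subschemeι ≫ (X ↘ (Spec (CommRingCat.of k))) := by
      rw [← Category.assoc]
      congr 1
      exact (Scheme.IdealSheafData.inclusion_subschemeι _).symm
    rw [h3, glob_comp]
    rfl
  let _ := (glob ((IC X C hC).subschemeι ≫ (X ↘ (Spec (CommRingCat.of k))))).toAlgebra
  let _ := (glob ((IC X C hC ⊔ IX' X C hC).subschemeι ≫ (X ↘ (Spec (CommRingCat.of k))))).toAlgebra
  let e : Γ((IC X C hC).subscheme, ⊤) ≃ₐ[k] Γ((IC X C hC ⊔ IX' X C hC).subscheme, ⊤) :=
    AlgEquiv.ofBijective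
      { __ := (jT X C hC).appTop.hom
        commutes' := fun c => congr($h2.symm c) } hb
  have h4 : Algebra.FormallyUnramified k Γ((IC X C hC ⊔ IX' X C hC).subscheme, ⊤) := h1
  exact Algebra.FormallyUnramified.of_equiv e.symm

theorem finrank_residueField {A : Type u} [Field A] {Z : Scheme.{u}} [Z.Over (Spec (CommRingCat.of A))]
    (x : Z) (h : Function.Bijective (Curv2.resMap A Z x)) :
    letI := Curv2.resAlgebra A Z x
    Module.finrank A (Z.residueField x) = 1 := by
  letI := Curv2.resAlgebra A Z x
  have e : A ≃ₗ[A] Z.residueField x := LinearEquiv.ofBijective (Algebra.linearMap A (Z.residueField x)) h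
  rw [← e.finrank_eq, Module.finrank_self]

/-- **A rational tail of a nodal curve is smooth over the base field.** -/
theorem smooth_tail (hdim : topologicalKrullDim X = 1) (hX : Curv2.AtWorstNodal k X)
    (h : Curv2.IsRationalTail X C hC) : Smooth ((IC X C hC).subschemeι ≫ (X ↘ (Spec (CommRingCat.of k)))) := by
  have hN : IsNoetherian X := Groth.Agent.CurvesC.CurveCoh.noetherianSpace k X
  have hred : IsReduced X := CurvesC.GenusOne512.isReduced_of_atWorstNodal k X hX
  have hfu := formallyUnramified_glob k X C hC hdim hX h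
  have hAf := isField_comp k X C hC
  set Z := (IC X C hC).subscheme with hZ
  set f : Z ⟶ Spec (CommRingCat.of k) := (IC X C hC).subschemeι ≫ (X ↘ (Spec (CommRingCat.of k))) with hf
  have hPf : IsProper f := by rw [hf]; infer_instance
  have hρ : Z.toSpecΓ ≫ Spec.map (CommRingCat.ofHom (glob f)) = f := toSpecΓ_comp f
  have hfin : IsFinite (Spec.map (CommRingCat.ofHom (glob f))) := isFinite_map f
  have hs : Smooth (Spec.map (CommRingCat.ofHom (glob f))) :=
    smooth_map_of_unramified hAf (glob f) ((IsFinite.SpecMap_iff _).mp hfin) hfu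
  have hPπ : IsProper Z.toSpecΓ := by
    have : IsProper (Z.toSpecΓ ≫ Spec.map (CommRingCat.ofHom (glob f))) := by rw [hρ]; exact hPf
    exact IsProper.of_comp Z.toSpecΓ (Spec.map (CommRingCat.ofHom (glob f)))
  obtain ⟨h0, hTne, hTsub, hTred, hev, hH1⟩ := h
  obtain ⟨t⟩ := hTne
  let A : Type u := Γ(Z, ⊤)
  letI : Field A := hAf.toField
  letI hov : Z.Over (Spec (CommRingCat.of A)) := ⟨Z.toSpecΓ⟩
  have hP : IsProper (Z ↘ (Spec (CommRingCat.of A))) := hPπ
  have hI : IsIntegral Z := isIntegral_C X C hC
  have hcl : IsClosed ({jT X C hC t} : Set Z) := by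
    have h1 := (jT X C hC).isClosedEmbedding.isClosedMap {t} (isClosed_T X C hC hdim.le {t})
    rwa [Set.image_singleton] at h1
  have hrk := finrank_residueField (A := A) (Z := Z) (jT X C hC t) (by
    have h1 : ∀ a : A, Coh.toGlobal (Z ↘ (Spec (CommRingCat.of A))) a = a := fun a => by
      change (Z.toSpecΓ.appTop).hom ((Scheme.ΓSpecIso Γ(Z, ⊤)).inv.hom a) = a
      rw [Scheme.toSpecΓ_appTop, ← CommRingCat.comp_apply, Iso.inv_hom_id]
      rfl
    have h2 : ∀ a : A, Curv2.resMap A Z (jT X C hC t) a = Z.evaluation ⊤ (jT X C hC t) trivial a := fun a => by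
      change (Z.residue _).hom ((Z.presheaf.germ ⊤ _ trivial).hom (Coh.toGlobal (Z ↘ (Spec (CommRingCat.of A))) a)) = _
      rw [h1]
      rfl
    have h3 : (Curv2.resMap A Z (jT X C hC t) : A → _) = Z.evaluation ⊤ (jT X C hC t) trivial := funext h2
    rw [h3]
    exact hev t)
  obtain ⟨e, he⟩ := Groth.Agent.S6542.result A Z (dim_C X hdim C hC t) hH1 {jT X C hC t}
    (by simpa using hcl) (by simpa using isIntegrallyClosed_stalk k X hdim hX C hC t)
    (by rw [Finset.gcd_singleton, hrk]; rfl)
  have hsm : Smooth (CohB1.ProjSpace.toSpec 1 A) := SmoothOfRelativeDimension.smooth 1 _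
  have hsm' : Smooth Z.toSpecΓ := by
    have h2 : Smooth (e.hom ≫ CohB1.ProjSpace.toSpec 1 A) := inferInstance
    rw [he] at h2
    exact h2
  rw [← hρ]
  exact MorphismProperty.comp_mem @Smooth _ _ hsm' hs

end K974.TailSmooth
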